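import Mathlib.RingTheory.TensorProduct.Basic
import Mathlib.RingTheory.Flat.FaithfullyFlat.Algebra
import Mathlib.Algebra.CharP.Frobenius
import Mathlib.Algebra.CharP.Algebra
import Mathlib.LinearAlgebra.FreeModule.Basic

/-! An algebra which becomes infinitesimal after a field extension maps to the base by a power of Frobenius. -/

universe u

open scoped TensorProduct

namespace Groth.Agent.FrobSplit

variable {K F A B : Type u} [Field K] [Field F] [Algebra K F] [CommRing A] [Algebra K A] [CommRing B] [Algebra K B]

/-- High Frobenius powers of an infinitesimal augmented algebra, extended to a field, are constants. -/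
theorem pow_mem_range (p m : ℕ) [Fact p.Prime] [CharP K p] (ε : A →ₐ[K] K)
    (hε : ∀ a : A, ε a = 0 → a ^ p ^ m = 0) (y : F ⊗[K] A) :
    y ^ p ^ m ∈ (algebraMap F (F ⊗[K] A)).range := by
  classical
  haveI : Nontrivial A := ε.toRingHom.domain_nontrivial
  haveI : CharP A p := charP_of_injective_algebraMap (algebraMap K A).injective p
  haveI : Nontrivial (F ⊗[K] A) :=
    (Algebra.TensorProduct.map (AlgHom.id F F) ε).toRingHom.domain_nontrivial
  haveI : CharP F p := charP_of_injective_algebraMap (algebraMap K F).injective p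
  haveI : CharP (F ⊗[K] A) p := charP_of_injective_algebraMap (algebraMap F (F ⊗[K] A)).injective p
  induction y using TensorProduct.induction_on with
  | zero => exact ⟨0, by rw [map_zero, zero_pow (pow_ne_zero _ (Fact.out : p.Prime).ne_zero)]⟩
  | tmul f a =>
    have ha : a ^ p ^ m = algebraMap K A (ε a ^ p ^ m) := by
      conv_lhs => rw [← sub_add_cancel a (algebraMap K A (ε a))]
      rw [add_pow_expChar_pow, hε _ (by simp), zero_add, map_pow]
    refine ⟨(ε a ^ p ^ m) • f ^ p ^ m, ?_⟩
    rw [Algebra.TensorProduct.tmul_pow, ha, Algebra.TensorProduct.algebraMap_apply,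
      Algebra.algebraMap_eq_smul_one (A := A), TensorProduct.tmul_smul, TensorProduct.smul_tmul']
    rfl
  | add y z hy hz =>
    rw [add_pow_expChar_pow]
    exact Subring.add_mem _ hy hz

/-- The Frobenius power of an algebra isomorphic to an infinitesimal one over an extension field lands in the base. -/
theorem exists_hom (p m : ℕ) [Fact p.Prime] [CharP K p] (ε : A →ₐ[K] K) (hε : ∀ a : A, ε a = 0 → a ^ p ^ m = 0)
    (θ : F ⊗[K] B →ₐ[F] F ⊗[K] A) (hθ : Function.Injective θ) :
    ∃ ψ : B →+* K, ψ.comp (algebraMap K B) = iterateFrobenius K p m := by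
  haveI : Nontrivial B := by
    by_contra h
    rw [not_nontrivial_iff_subsingleton] at h
    haveI : Nontrivial (F ⊗[K] A) := (Algebra.TensorProduct.map (AlgHom.id F F) ε).toRingHom.domain_nontrivial
    have h1 : (1 : F ⊗[K] B) = 0 := by
      rw [Algebra.TensorProduct.one_def, Subsingleton.elim (1 : B) 0, TensorProduct.tmul_zero]
    exact one_ne_zero ((map_one θ).symm.trans ((congrArg θ h1).trans (map_zero θ)))
  haveI : CharP B p := charP_of_injective_algebraMap (algebraMap K B).injective p
  have key : ∀ b : B, b ^ p ^ m ∈ (algebraMap K B).range := by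
    intro b
    obtain ⟨c, hc⟩ := pow_mem_range p m ε hε (θ (1 ⊗ₜ b))
    rw [← map_pow, ← θ.commutes, Algebra.TensorProduct.tmul_pow, one_pow] at hc
    have h1 : algebraMap F (F ⊗[K] B) c = 1 ⊗ₜ[K] (b ^ p ^ m) := hθ hc
    let W : Submodule K B := Submodule.span K {1}
    have h2 : (1 : F) ⊗ₜ[K] W.mkQ (b ^ p ^ m) = 0 := by
      have := congrArg (LinearMap.lTensor F W.mkQ) h1
      rw [Algebra.TensorProduct.algebraMap_apply, LinearMap.lTensor_tmul, LinearMap.lTensor_tmul,
        Submodule.mkQ_apply, Submodule.mkQ_apply,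
        (Submodule.Quotient.mk_eq_zero W).mpr (Submodule.mem_span_singleton_self _), TensorProduct.tmul_zero] at this
      exact this.symm
    have h3 : W.mkQ (b ^ p ^ m) = 0 :=
      Module.FaithfullyFlat.tensorProduct_mk_injective (A := K) (B := F) _ (h2.trans (TensorProduct.tmul_zero _ _).symm)
    obtain ⟨r, hr⟩ := Submodule.mem_span_singleton.mp ((Submodule.Quotient.mk_eq_zero W).mp h3)
    exact ⟨r, (Algebra.algebraMap_eq_smul_one r).trans hr⟩
  refine ⟨(RingEquiv.ofBijective (algebraMap K B).rangeRestrict
    ⟨fun x y h => (algebraMap K B).injective (congrArg Subtype.val h), RingHom.rangeRestrict_surjective _⟩).symm.toRingHom.comp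
      ((iterateFrobenius B p m).codRestrict _ key), RingHom.ext fun x => ?_⟩
  rw [RingHom.comp_apply, RingHom.comp_apply, RingEquiv.toRingHom_eq_coe, RingEquiv.coe_toRingHom,
    RingEquiv.symm_apply_eq]
  refine Subtype.ext ?_
  show iterateFrobenius B p m (algebraMap K B x) = algebraMap K B (iterateFrobenius K p m x)
  rw [iterateFrobenius_def, iterateFrobenius_def, map_pow]

end Groth.Agent.FrobSplit
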