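import Groth.Agent.FrobSplit.Algebra
import Groth.Agent.SchTorsor.Point
import Groth.Agent.FinTorsor.Main
import Mathlib.RingTheory.Artinian.Module

/-! Torsors under finite connected groups are split by a power of Frobenius. -/

universe u

open CategoryTheory MonoidalCategory CartesianMonoidalCategory MonObj GrpObj AlgebraicGeometry
open CategoryTheory.Limits
open scoped TensorProduct

noncomputable section

namespace Groth.Agent.FrobSplit

variable {K F : Type u} [Field K] [Field F] [Algebra K F]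

/-- Base change of an affine scheme along a field extension. -/
theorem exists_cmp {B : Type u} [CommRing B] [Algebra K B] {X : Scheme.{u}} (f : X ⟶ Spec (CommRingCat.of K))
    (e : X ≅ Spec (CommRingCat.of B)) (he : e.hom ≫ Spec.map (CommRingCat.ofHom (algebraMap K B)) = f) :
    ∃ c : pullback f (Spec.map (CommRingCat.ofHom (algebraMap K F))) ≅ Spec (CommRingCat.of (F ⊗[K] B)),
      c.hom ≫ Spec.map (CommRingCat.ofHom (algebraMap F (F ⊗[K] B))) = pullback.snd _ _ := by
  refine ⟨pullbackSymmetry _ _ ≪≫ asIso (pullback.map (Spec.map (CommRingCat.ofHom (algebraMap K F))) f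
    (Spec.map (CommRingCat.ofHom (algebraMap K F))) (Spec.map (CommRingCat.ofHom (algebraMap K B)))
    (𝟙 _) e.hom (𝟙 _) (by simp) (by simp [he])) ≪≫ pullbackSpecIso K F B, ?_⟩
  rw [Iso.trans_hom, Iso.trans_hom, asIso_hom, Category.assoc, Category.assoc, pullbackSpecIso_hom_fst',
    pullback.lift_fst, Category.comp_id, pullbackSymmetry_hom_comp_fst]

variable {G X : Over (Spec (CommRingCat.of K))} [GrpObj G] [IsFinite G.hom]

/-- An isomorphism after extension of the field gives an isomorphism of algebras. -/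
theorem exists_algHom {A B : Type u} [CommRing A] [Algebra K A] [CommRing B] [Algebra K B]
    (eA : G.left ≅ Spec (CommRingCat.of A))
    (hA : eA.hom ≫ Spec.map (CommRingCat.ofHom (algebraMap K A)) = G.hom)
    (eB : X.left ≅ Spec (CommRingCat.of B))
    (hB : eB.hom ≫ Spec.map (CommRingCat.ofHom (algebraMap K B)) = X.hom)
    {a : AlgGrp.Action G X} (ha : NonAbH1.IsPseudoTorsorSch a)
    (s : Over.mk (Spec.map (CommRingCat.ofHom (algebraMap K F))) ⟶ X) :
    ∃ θ : F ⊗[K] B →ₐ[F] F ⊗[K] A, Function.Injective θ := by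
  haveI := SchTorsor.isIso_of_section ha s
  let t := Spec.map (CommRingCat.ofHom (algebraMap K F))
  let φ := lift ((G ◁ s) ≫ a.act) (SemiCartesianMonoidalCategory.snd G (Over.mk t))
  let e : pullback G.hom t ≅ pullback X.hom t := (Over.forget _).mapIso (asIso φ)
  have he : e.hom ≫ pullback.snd X.hom t = pullback.snd G.hom t :=
    congrArg CommaMorphism.left (lift_snd ((G ◁ s) ≫ a.act) (SemiCartesianMonoidalCategory.snd G (Over.mk t)))
  obtain ⟨cA, hcA⟩ := exists_cmp (F := F) G.hom eA hA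
  obtain ⟨cB, hcB⟩ := exists_cmp (F := F) X.hom eB hB
  let E := cA.inv ≫ e.hom ≫ cB.hom
  let r : CommRingCat.of (F ⊗[K] B) ⟶ CommRingCat.of (F ⊗[K] A) := Spec.preimage E
  have hr : CommRingCat.ofHom (algebraMap F (F ⊗[K] B)) ≫ r = CommRingCat.ofHom (algebraMap F (F ⊗[K] A)) :=
    Spec.map_injective (by
      rw [Spec.map_comp, Spec.map_preimage]
      simp only [E, Category.assoc]
      rw [hcB, he, Iso.inv_comp_eq, hcA])
  refine ⟨{ r.hom with commutes' := fun x => congrArg (fun g => g.hom x) hr }, ?_⟩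
  have h : r ≫ Spec.preimage (inv E) = 𝟙 _ := Spec.map_injective (by
    rw [Spec.map_comp, Spec.map_preimage, Spec.map_preimage, IsIso.inv_hom_id, Spec.map_id])
  exact Function.LeftInverse.injective (g := (Spec.preimage (inv E)).hom) fun x => congrArg (fun g => g.hom x) h

theorem hasSectionOver_iterateFrobenius (p : ℕ) [Fact p.Prime] [CharP K p] [ConnectedSpace G.left] :
    ∃ n : ℕ, ∀ (X : Over (Spec (CommRingCat.of K))) (a : AlgGrp.Action G X),
      NonAbH1.IsTorsorFor Scheme.fpqcPrecoverage a →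
      NonAbH1.HasSectionOver X (Spec.map (CommRingCat.ofHom (iterateFrobenius K p n))) := by
  haveI : IsAffine G.left := isAffine_of_isAffineHom G.hom
  let φA : CommRingCat.of K ⟶ Γ(G.left, ⊤) := Spec.preimage (G.left.isoSpec.inv ≫ G.hom)
  letI := φA.hom.toAlgebra
  have hA : G.left.isoSpec.hom ≫ Spec.map (CommRingCat.ofHom (algebraMap K Γ(G.left, ⊤))) = G.hom := by
    show G.left.isoSpec.hom ≫ Spec.map φA = _
    rw [Spec.map_preimage, Iso.hom_inv_id_assoc]
  haveI : Module.Finite K Γ(G.left, ⊤) := by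
    have : IsFinite (Spec.map φA) := by rw [Spec.map_preimage]; infer_instance
    rwa [IsFinite.SpecMap_iff] at this
  haveI : IsArtinianRing Γ(G.left, ⊤) := IsArtinianRing.of_finite K _
  let one : Spec (CommRingCat.of K) ⟶ G.left := η[G].left
  let εc : Γ(G.left, ⊤) ⟶ CommRingCat.of K := Spec.preimage (one ≫ G.left.isoSpec.hom)
  have hεc : φA ≫ εc = 𝟙 _ := Spec.map_injective (by
    rw [Spec.map_comp, Spec.map_preimage, Spec.map_preimage, Spec.map_id, Category.assoc, Iso.hom_inv_id_assoc]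
    exact Over.w η[G])
  let ε : Γ(G.left, ⊤) →ₐ[K] K := { εc.hom with commutes' := fun x => congrArg (fun g => g.hom x) hεc }
  obtain ⟨N, hN⟩ := IsArtinianRing.isNilpotent_jacobson_bot (R := Γ(G.left, ⊤))
  haveI : ConnectedSpace (PrimeSpectrum Γ(G.left, ⊤)) :=
    G.left.isoSpec.schemeIsoToHomeo.surjective.connectedSpace G.left.isoSpec.schemeIsoToHomeo.continuous
  haveI : Subsingleton (PrimeSpectrum Γ(G.left, ⊤)) := PreconnectedSpace.trivial_of_discrete
  have hker : ∀ x, ε x = 0 → x ∈ (⊥ : Ideal Γ(G.left, ⊤)).jacobson := by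
    intro x hx
    refine Ideal.mem_sInf.2 fun m hm => ?_
    haveI := hm.2
    have : (⟨m, hm.2.isPrime⟩ : PrimeSpectrum Γ(G.left, ⊤)) = ⟨RingHom.ker ε.toRingHom, RingHom.ker_isPrime _⟩ :=
      Subsingleton.elim _ _
    rw [show m = RingHom.ker ε.toRingHom from congrArg PrimeSpectrum.asIdeal this]
    exact hx
  obtain ⟨n, hn⟩ : ∃ n, N ≤ p ^ n := ⟨N, (Nat.lt_pow_self (Fact.out : p.Prime).one_lt).le⟩
  refine ⟨n, fun X a ha => ?_⟩
  haveI := EtFound.fpqc_isFinite.{u}
  obtain ⟨hfin, -, hsurj⟩ : IsFinite X.hom ∧ True ∧ Surjective X.hom :=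
    ⟨SchTorsor.torsor_property @IsFinite ha inferInstance, trivial, SchTorsor.surjective_hom ha⟩
  haveI : IsAffine X.left := isAffine_of_isAffineHom X.hom
  let φB : CommRingCat.of K ⟶ Γ(X.left, ⊤) := Spec.preimage (X.left.isoSpec.inv ≫ X.hom)
  letI := φB.hom.toAlgebra
  have hB : X.left.isoSpec.hom ≫ Spec.map (CommRingCat.ofHom (algebraMap K Γ(X.left, ⊤))) = X.hom := by
    show X.left.isoSpec.hom ≫ Spec.map φB = _
    rw [Spec.map_preimage, Iso.hom_inv_id_assoc]
  obtain ⟨x, -⟩ := X.hom.surjective (IsLocalRing.closedPoint K)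
  let r : CommRingCat.of K ⟶ X.left.residueField x := Spec.preimage (X.left.fromSpecResidueField x ≫ X.hom)
  letI := r.hom.toAlgebra
  let s : Over.mk (Spec.map (CommRingCat.ofHom (algebraMap K (X.left.residueField x)))) ⟶ X :=
    Over.homMk (X.left.fromSpecResidueField x) (Spec.map_preimage _).symm
  obtain ⟨θ, hθ⟩ := exists_algHom G.left.isoSpec hA X.left.isoSpec hB ha.1 s
  obtain ⟨ψ, hψ⟩ := exists_hom p n ε (fun y hy => by
    have h1 : y ^ N ∈ (⊥ : Ideal Γ(G.left, ⊤)).jacobson ^ N := Ideal.pow_mem_pow (hker y hy) N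
    rw [hN] at h1
    exact pow_eq_zero_of_le hn h1) θ hθ
  refine ⟨Spec.map (CommRingCat.ofHom ψ) ≫ X.left.isoSpec.inv, ?_⟩
  conv_lhs => rw [← hB]
  rw [Category.assoc, Iso.inv_hom_id_assoc, ← Spec.map_comp, ← CommRingCat.ofHom_comp, hψ]

end Groth.Agent.FrobSplit
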